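import Mathlib
import Groth.Prelude.Def_FEt
import Groth.Prelude.Def_PiSp
import Groth.Prelude.Def_EtRam
import Groth.Agent.Lib.Helper9.EtRam.Dom23

set_option linter.style.haveILetI false
set_option linter.unusedVariables false
set_option linter.unusedSectionVars false
set_option autoImplicit false
set_option backward.isDefEq.respectTransparency.types false
set_option backward.isDefEq.respectTransparency false
set_option synthInstance.maxHeartbeats 400000
set_option maxHeartbeats 1600000

/-!
# Tame ramification of Galois covers whose automorphism group has invertible order (helper7)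

* `tame_of_galois`: a finite Galois extension `L/K` of the fraction field of a DVR `A` whose degree is
  prime to the residue characteristic is tamely ramified (via helper9's dictionary `Dict`:
  `r * (e * f) = [L:K]`).
* `finite_and_isGalois`: for a Galois cover `Z → X` (in the sense of `PiSp.IsGaloisCover`) the residue
  field extension `κ(z)/κ(x)` is finite Galois.
* `not_dvd_finrank`: a prime `q` with `q = 0` in `k` cannot divide `[κ(z):κ(x)]` when
  `#Aut Z ≠ 0` in `k` (Cauchy + transitivity on geometric fibres).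
-/

universe u

open CategoryTheory CategoryTheory.Limits AlgebraicGeometry IsLocalRing

namespace Groth.Agent.Lib.Helper7.TameGal

section Alg

open Groth.Agent.Helper9.EtRamLib EtRam

/-- a finite extension of degree prime to the characteristic is separable -/
theorem sep_of_not_dvd {F E : Type*} [Field F] [Field E] [Algebra F E] [FiniteDimensional F E]
    (h : ∀ q : ℕ, q.Prime → CharP F q → ¬ q ∣ Module.finrank F E) : Algebra.IsSeparable F E := by
  obtain ⟨q, hq⟩ := ExpChar.exists F
  rw [isSeparable_iff_finInsepDegree_eq_one]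
  obtain ⟨n, hn⟩ := finInsepDegree_eq_pow (F := F) (E := E) q
  have hdvd : Field.finInsepDegree F E ∣ Module.finrank F E :=
    ⟨Field.finSepDegree F E, by
      rw [mul_comm]; exact (Field.finSepDegree_mul_finInsepDegree F E).symm⟩
  rcases hq with _ | hprime
  · rw [hn, one_pow]
  · rcases Nat.eq_zero_or_pos n with rfl | hnpos
    · rw [hn, pow_zero]
    · exfalso
      refine h q hprime inferInstance ?_
      rw [hn] at hdvd
      exact (dvd_pow_self q hnpos.ne').trans hdvd

/-- a finite Galois extension of degree prime to the residue characteristic is tamely ramified -/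
theorem tame_of_galois {A K L : Type u} [CommRing A] [IsDomain A] [IsDiscreteValuationRing A]
    [Field K] [Algebra A K] [IsFractionRing A K] [Field L] [Algebra K L] [Algebra A L]
    [IsScalarTower A K L] [FiniteDimensional K L] [IsGalois K L]
    (hdeg : ∀ q : ℕ, q.Prime → CharP (ResidueField A) q → ¬ q ∣ Module.finrank K L) :
    EtRam.IsTamelyRamified A (algebraMap A L) := by
  haveI : Algebra.IsSeparable K L := IsGalois.to_isSeparable
  intro V hV hloc
  letI algAV : Algebra A V := (RingHom.codRestrict (algebraMap A L) V hV.1).toAlgebra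
  haveI : IsLocalHom (algebraMap A V) := hloc
  obtain ⟨r, hr, hrm, -⟩ := Dict.galois_count K hV
  have he := Dict.ramIdx_eq K hV
  have hf := Dict.inertia_eq K hV
  have hfpos : 0 < Dict.fq hV := Cases.fq_pos K hV
  have hdvd_e : Dict.eq hV ∣ Module.finrank K L := ⟨r * Dict.fq hV, by rw [← hrm]; ring⟩
  have hdvd_f : Dict.fq hV ∣ Module.finrank K L := ⟨r * Dict.eq hV, by rw [← hrm]; ring⟩
  refine ⟨?_, ?_⟩
  · haveI : Module.Finite (ResidueField A) (ResidueField V) :=
      Module.finite_of_finrank_pos (by rw [hf]; exact hfpos)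
    apply sep_of_not_dvd
    intro q hq hchar hdvd
    rw [hf] at hdvd
    exact hdeg q hq hchar (hdvd.trans hdvd_f)
  · intro p hp hchar hdvd
    rw [he] at hdvd
    exact hdeg p hp hchar (hdvd.trans hdvd_e)

end Alg

section Geo

/-- The residue field extension of an unramified morphism is finite (same proof as Mathlib's
separability instance). -/
theorem finite_residueFieldMap {X Y : Scheme.{u}} (f : X ⟶ Y) [FormallyUnramified f]
    [LocallyOfFiniteType f] (x : X) :
    letI : Algebra (Y.residueField (f.base x)) (X.residueField x) :=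
      (f.residueFieldMap x).hom.toAlgebra
    Module.Finite (Y.residueField (f.base x)) (X.residueField x) := by
  algebraize [(f.stalkMap x).hom]
  have : IsLocalHom (algebraMap (Y.presheaf.stalk (f x)) (X.presheaf.stalk x)) :=
    inferInstanceAs <| IsLocalHom (f.stalkMap x).hom
  suffices h : @Module.Finite
      (IsLocalRing.ResidueField (Y.presheaf.stalk (f x)))
      (IsLocalRing.ResidueField (X.presheaf.stalk x)) _ _
      (@Algebra.toModule _ _ _ _ (inferInstance : Algebra
        (IsLocalRing.ResidueField (Y.presheaf.stalk (f x)))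
        (IsLocalRing.ResidueField (X.presheaf.stalk x)))) by
    convert! h
    refine Algebra.algebra_ext _ _ fun x ↦ ?_
    obtain ⟨x, rfl⟩ := IsLocalRing.residue_surjective x
    rfl
  have : Algebra.EssFiniteType (Y.presheaf.stalk (f x)) (X.presheaf.stalk x) := by
    rw [← RingHom.essFiniteType_algebraMap, RingHom.algebraMap_toAlgebra]
    exact LocallyOfFiniteType.stalkMap f x
  have : Algebra.FormallyUnramified (Y.presheaf.stalk (f x)) (X.presheaf.stalk x) := by
    rw [← RingHom.formallyUnramified_algebraMap, RingHom.algebraMap_toAlgebra]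
    exact FormallyUnramified.stalkMap f x
  infer_instance

/-- The residue field extension of an unramified morphism is separable (Mathlib instance, restated
so that it can be applied explicitly). -/
theorem sep_residueFieldMap {X Y : Scheme.{u}} (f : X ⟶ Y) [FormallyUnramified f]
    [LocallyOfFiniteType f] (x : X) :
    letI : Algebra (Y.residueField (f.base x)) (X.residueField x) :=
      (f.residueFieldMap x).hom.toAlgebra
    Algebra.IsSeparable (Y.residueField (f.base x)) (X.residueField x) := by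
  letI : Algebra (Y.residueField (f.base x)) (X.residueField x) :=
      (f.residueFieldMap x).hom.toAlgebra
  infer_instance

variable {X : Scheme.{u}} (Z : FEt.Cat X) (z : Z.left)

set_option quotPrecheck false in
local notation "𝕂" => ↥(X.residueField (Z.hom.base z))
set_option quotPrecheck false in
local notation "𝕃" => ↥(Z.left.residueField z)

/-- Transitivity on the geometric fibre: every `κ(x)`-embedding `τ` of `κ(z)` into an algebraically
closed field `Ω` is `ι ∘ g` for an endomorphism `g` of `κ(z)` induced by an automorphism of `Z`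
fixing `z`. -/
theorem exists_aut_of_emb (hZ : PiSp.IsGaloisCover Z) {Ω : Type u} [Field Ω] [IsAlgClosed Ω]
    (ι τ : Z.left.residueField z ⟶ CommRingCat.of Ω)
    (h : Z.hom.residueFieldMap z ≫ τ = Z.hom.residueFieldMap z ≫ ι) :
    ∃ (σ : Aut Z) (g : Z.left.residueField z ⟶ Z.left.residueField z),
      g ≫ ι = τ ∧
      Spec.map g ≫ Z.left.fromSpecResidueField z =
        Z.left.fromSpecResidueField z ≫ σ.hom.left := by
  obtain ⟨j, hj⟩ : ∃ j : Spec (Z.left.residueField z) ⟶ Z.left,
      j = Z.left.fromSpecResidueField z := ⟨_, rfl⟩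
  rw [← hj]
  have hjZ : j ≫ Z.hom =
      Spec.map (Z.hom.residueFieldMap z) ≫ X.fromSpecResidueField (Z.hom.base z) := by
    rw [hj]
    exact (Scheme.Hom.SpecMap_residueFieldMap_fromSpecResidueField Z.hom z).symm
  obtain ⟨ξ, hξ⟩ : ∃ ξ : Spec (CommRingCat.of Ω) ⟶ X, ξ = (Spec.map ι ≫ j) ≫ Z.hom :=
    ⟨_, rfl⟩
  have hτξ : (Spec.map τ ≫ j) ≫ Z.hom = ξ := by
    rw [hξ, Category.assoc, Category.assoc, hjZ, ← Category.assoc, ← Category.assoc,
      ← Spec.map_comp, ← Spec.map_comp, h]
  obtain ⟨σ, hσ⟩ := hZ.2 Ω ξ (Subtype.mk (Spec.map ι ≫ j) hξ.symm)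
    (Subtype.mk (Spec.map τ ≫ j) hτξ)
  have hσ1 : (Spec.map ι ≫ j) ≫ σ.hom.left = Spec.map τ ≫ j := congrArg Subtype.val hσ
  obtain ⟨⟨z', g'⟩, hzg⟩ :=
    (Scheme.SpecToEquivOfField 𝕃 Z.left).symm.surjective (j ≫ σ.hom.left)
  rw [Scheme.SpecToEquivOfField_symm_apply] at hzg
  dsimp only at hzg
  have h2 : (Scheme.SpecToEquivOfField Ω Z.left).symm ⟨z', g' ≫ ι⟩ =
      (Scheme.SpecToEquivOfField Ω Z.left).symm ⟨z, τ⟩ := by
    rw [Scheme.SpecToEquivOfField_symm_apply, Scheme.SpecToEquivOfField_symm_apply]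
    dsimp only
    calc Spec.map (g' ≫ ι) ≫ Z.left.fromSpecResidueField z'
        = Spec.map ι ≫ (Spec.map g' ≫ Z.left.fromSpecResidueField z') := by
          rw [Spec.map_comp, Category.assoc]
      _ = Spec.map ι ≫ (j ≫ σ.hom.left) := congrArg (fun w => Spec.map ι ≫ w) hzg
      _ = (Spec.map ι ≫ j) ≫ σ.hom.left := (Category.assoc _ _ _).symm
      _ = Spec.map τ ≫ j := hσ1
      _ = Spec.map τ ≫ Z.left.fromSpecResidueField z := by rw [hj]
  obtain ⟨e, he⟩ := Scheme.SpecToEquivOfField_eq_iff.mp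
    ((Scheme.SpecToEquivOfField Ω Z.left).symm.injective h2)
  dsimp only at e he
  subst e
  refine ⟨σ, g', ?_, by rw [hj] at hzg ⊢; exact hzg⟩
  rw [he]
  simp

/-- The residue field extension at a point of a Galois cover is finite Galois. -/
theorem finite_and_isGalois (hZ : PiSp.IsGaloisCover Z) :
    letI : Algebra 𝕂 𝕃 := (Z.hom.residueFieldMap z).hom.toAlgebra
    Module.Finite 𝕂 𝕃 ∧ IsGalois 𝕂 𝕃 := by
  letI : Algebra 𝕂 𝕃 := (Z.hom.residueFieldMap z).hom.toAlgebra
  haveI : IsFinite Z.hom := Z.prop.1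
  haveI : Etale Z.hom := Z.prop.2
  haveI hsep : Algebra.IsSeparable 𝕂 𝕃 := sep_residueFieldMap Z.hom z
  haveI hfin : Module.Finite 𝕂 𝕃 := finite_residueFieldMap Z.hom z
  refine ⟨hfin, ?_⟩
  apply IsGalois.of_card_aut_eq_finrank
  rw [← Field.finSepDegree_eq_finrank_of_isSeparable 𝕂 𝕃]
  show Nat.card (𝕃 ≃ₐ[𝕂] 𝕃) = Nat.card (𝕃 →ₐ[𝕂] AlgebraicClosure 𝕃)
  refine Nat.card_eq_of_bijective
    (fun γ : 𝕃 ≃ₐ[𝕂] 𝕃 =>
      (IsScalarTower.toAlgHom 𝕂 𝕃 (AlgebraicClosure 𝕃)).comp (γ : 𝕃 →ₐ[𝕂] 𝕃)) ⟨?_, ?_⟩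
  · intro γ₁ γ₂ h12
    ext y
    apply (algebraMap 𝕃 (AlgebraicClosure 𝕃)).injective
    exact DFunLike.congr_fun h12 y
  · intro τ
    obtain ⟨σ, g, hg, -⟩ := exists_aut_of_emb Z z hZ
      (CommRingCat.ofHom (algebraMap 𝕃 (AlgebraicClosure 𝕃)))
      (CommRingCat.ofHom (τ : 𝕃 →+* AlgebraicClosure 𝕃)) (by
        ext c
        show τ ((Z.hom.residueFieldMap z).hom c) =
          algebraMap 𝕃 (AlgebraicClosure 𝕃) ((Z.hom.residueFieldMap z).hom c)
        exact (τ.commutes c).trans (IsScalarTower.algebraMap_apply 𝕂 𝕃 (AlgebraicClosure 𝕃) c))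
    have hgτ : ∀ y : 𝕃, algebraMap 𝕃 (AlgebraicClosure 𝕃) (g.hom y) = τ y := fun y =>
      congrArg (fun φ => φ.hom y) hg
    have hcomm : ∀ c : 𝕂, g.hom (algebraMap 𝕂 𝕃 c) = algebraMap 𝕂 𝕃 c := fun c => by
      apply (algebraMap 𝕃 (AlgebraicClosure 𝕃)).injective
      rw [hgτ]
      exact (τ.commutes c).trans (IsScalarTower.algebraMap_apply 𝕂 𝕃 (AlgebraicClosure 𝕃) c)
    let gA : 𝕃 →ₐ[𝕂] 𝕃 := { g.hom with commutes' := hcomm }
    refine ⟨AlgEquiv.ofBijective gA (AlgHom.bijective gA), ?_⟩
    ext y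
    exact hgτ y

/-- A prime vanishing in `k` cannot divide the residue degree when `#Aut Z` is invertible in `k`. -/
theorem not_dvd_finrank (hZ : PiSp.IsGaloisCover Z) (k : Type u) [Field k]
    (hn : (Nat.card (Aut Z) : k) ≠ 0) (q : ℕ) (hq : q.Prime) (hqk : (q : k) = 0) :
    letI : Algebra 𝕂 𝕃 := (Z.hom.residueFieldMap z).hom.toAlgebra
    ¬ q ∣ Module.finrank 𝕂 𝕃 := by
  letI : Algebra 𝕂 𝕃 := (Z.hom.residueFieldMap z).hom.toAlgebra
  obtain ⟨hfin, hgal⟩ := finite_and_isGalois Z z hZ
  haveI := hfin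
  haveI := hgal
  intro hdvd
  rw [← IsGalois.card_aut_eq_finrank 𝕂 𝕃] at hdvd
  haveI : Fact q.Prime := ⟨hq⟩
  obtain ⟨γ, hγ⟩ := exists_prime_orderOf_dvd_card' q hdvd
  obtain ⟨σ, g, hg, hgj⟩ := exists_aut_of_emb Z z hZ
    (CommRingCat.ofHom (algebraMap 𝕃 (AlgebraicClosure 𝕃)))
    (CommRingCat.ofHom ((algebraMap 𝕃 (AlgebraicClosure 𝕃)).comp (γ : 𝕃 →+* 𝕃))) (by
      ext c
      show algebraMap 𝕃 (AlgebraicClosure 𝕃) (γ ((Z.hom.residueFieldMap z).hom c)) =
        algebraMap 𝕃 (AlgebraicClosure 𝕃) ((Z.hom.residueFieldMap z).hom c)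
      exact congrArg _ (γ.commutes c))
  have hgγ : ∀ y : 𝕃, g.hom y = γ y := fun y => by
    apply (algebraMap 𝕃 (AlgebraicClosure 𝕃)).injective
    exact congrArg (fun φ => φ.hom y) hg
  obtain ⟨j, hj⟩ : ∃ j : Spec (Z.left.residueField z) ⟶ Z.left,
      j = Z.left.fromSpecResidueField z := ⟨_, rfl⟩
  rw [← hj] at hgj
  have hpow : ∀ m : ℕ, ∃ gm : Z.left.residueField z ⟶ Z.left.residueField z,
      (∀ y : 𝕃, gm.hom y = (γ ^ m) y) ∧ Spec.map gm ≫ j = j ≫ (σ ^ m).hom.left := by
    intro m
    induction m with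
    | zero =>
      refine ⟨𝟙 _, fun y => ?_, ?_⟩
      · simp
      · rw [Spec.map_id, Category.id_comp, pow_zero]
        exact (Category.comp_id j).symm
    | succ m ih =>
      obtain ⟨gm, hgm, hgmj⟩ := ih
      refine ⟨g ≫ gm, fun y => ?_, ?_⟩
      · show gm.hom (g.hom y) = (γ ^ (m + 1)) y
        rw [hgm, hgγ, pow_succ]
        rfl
      · rw [Spec.map_comp, Category.assoc, hgj, ← Category.assoc, hgmj, Category.assoc,
          pow_succ']
        rfl
  obtain ⟨gn, hgn, hgnj⟩ := hpow (Nat.card (Aut Z))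
  rw [pow_card_eq_one'] at hgnj
  have hgnj' : Spec.map gn ≫ j = j := hgnj.trans (Category.comp_id j)
  have hgn1 : gn = 𝟙 _ := by
    have h5 : (Scheme.SpecToEquivOfField 𝕃 Z.left).symm ⟨z, gn⟩ =
        (Scheme.SpecToEquivOfField 𝕃 Z.left).symm ⟨z, 𝟙 _⟩ := by
      show Spec.map gn ≫ Z.left.fromSpecResidueField z =
        Spec.map (𝟙 (Z.left.residueField z)) ≫ Z.left.fromSpecResidueField z
      have e1 : Spec.map gn ≫ Z.left.fromSpecResidueField z = Z.left.fromSpecResidueField z :=
        hj ▸ hgnj'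
      have e2 : Spec.map (𝟙 (Z.left.residueField z)) ≫ Z.left.fromSpecResidueField z =
          Z.left.fromSpecResidueField z := by
        rw [Spec.map_id]
        exact Category.id_comp _
      exact e1.trans e2.symm
    obtain ⟨e, he⟩ := Scheme.SpecToEquivOfField_eq_iff.mp
      ((Scheme.SpecToEquivOfField 𝕃 Z.left).symm.injective h5)
    simpa using he
  have hγn : γ ^ Nat.card (Aut Z) = 1 := by
    ext y
    rw [← hgn, hgn1]
    simp
  have hqn : q ∣ Nat.card (Aut Z) := hγ ▸ orderOf_dvd_of_pow_eq_one hγn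
  obtain ⟨m, hm⟩ := hqn
  exact hn (by rw [hm, Nat.cast_mul, hqk, zero_mul])

/-- Main theorem: tameness of `κ(z)/κ(x)` at any DVR of `κ(x)` containing the field `k`. -/
theorem main (k : Type u) [Field k] (hZ : PiSp.IsGaloisCover Z)
    (hn : (Nat.card (Aut Z) : k) ≠ 0)
    (A : ValuationSubring 𝕂) [IsDiscreteValuationRing A] (φ : k →+* A) :
    EtRam.IsTamelyRamified A ((Z.hom.residueFieldMap z).hom.comp A.subtype) := by
  letI algKL : Algebra 𝕂 𝕃 := (Z.hom.residueFieldMap z).hom.toAlgebra
  letI algAL : Algebra A 𝕃 := ((Z.hom.residueFieldMap z).hom.comp A.subtype).toAlgebra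
  haveI : IsScalarTower A 𝕂 𝕃 := IsScalarTower.of_algebraMap_eq (fun a => rfl)
  obtain ⟨hfin, hgal⟩ := finite_and_isGalois Z z hZ
  haveI := hfin
  haveI := hgal
  refine tame_of_galois (A := A) (K := 𝕂) (L := 𝕃) ?_
  intro q hq hchar
  apply not_dvd_finrank Z z hZ k hn q hq
  have h1 : ((residue A).comp φ) (q : k) = 0 := by
    rw [map_natCast]
    exact CharP.cast_eq_zero (ResidueField A) q
  exact (map_eq_zero_iff _ ((residue A).comp φ).injective).mp h1

end Geo

end Groth.Agent.Lib.Helper7.TameGal
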