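import Mathlib
import Groth.Prelude.Def_FEt
import Groth.Prelude.Def_EtRam
import Groth.Agent.Lib.Helper9.EtRam.Dom23
import Groth.Agent.Lib.Helper7.FEtAff.Dict
import Groth.Agent.Lib.Helper7.TameGal.Main

set_option linter.style.haveILetI false
set_option linter.unusedVariables false
set_option linter.unusedSectionVars false
set_option autoImplicit false
set_option backward.isDefEq.respectTransparency.types false
set_option backward.isDefEq.respectTransparency false
set_option synthInstance.maxHeartbeats 400000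
set_option maxHeartbeats 1600000

/-!
# Finite étale covers of proper `k`-schemes are unramified at DVRs containing `k` (helper7)

* `tame_of_unramified_model`: if the finite extension `L/K` of the fraction field of a DVR `A` is
  "generated" by a finite unramified `A`-algebra `B → L`, then `L/K` is unramified (hence tame) w.r.t. `A`.
* `exists_model`: valuative criterion + pullback produce such a model for `κ(y)/κ(x)`.
-/

universe u

open CategoryTheory CategoryTheory.Limits AlgebraicGeometry IsLocalRing

namespace Groth.Agent.Lib.Helper7.TameGal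

section Alg

open Groth.Agent.Helper9.EtRamLib EtRam

theorem tame_of_unramified_model {A K L : Type u} [CommRing A] [IsDomain A]
    [IsDiscreteValuationRing A]
    [Field K] [Algebra A K] [IsFractionRing A K] [Field L] [Algebra K L] [Algebra A L]
    [IsScalarTower A K L] [FiniteDimensional K L]
    {B : Type u} [CommRing B] [Algebra A B] [Module.Finite A B] [Algebra.FormallyUnramified A B]
    (ψ : B →ₐ[A] L) (hψ : ∀ y : L, ∃ b b' : B, ψ b' ≠ 0 ∧ y * ψ b' = ψ b) :
    EtRam.IsTamelyRamified A (algebraMap A L) := by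
  have hsurj : Function.Surjective ψ.rangeRestrict := ψ.rangeRestrict_surjective
  haveI : Module.Finite A ψ.range :=
    Module.Finite.of_surjective ψ.rangeRestrict.toLinearMap hsurj
  haveI : Algebra.FormallyUnramified A ψ.range :=
    Algebra.FormallyUnramified.of_surjective ψ.rangeRestrict hsurj
  haveI : IsDedekindDomain ψ.range := isDedekindDomain.of_formallyUnramified A ψ.range
  haveI : FaithfulSMul ψ.range L :=
    (faithfulSMul_iff_algebraMap_injective ψ.range L).mpr Subtype.val_injective
  haveI : IsFractionRing ψ.range L := IsFractionRing.of_field ψ.range L (fun y => by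
    obtain ⟨b, b', hb', h⟩ := hψ y
    refine ⟨⟨ψ b, ⟨b, rfl⟩⟩, ⟨ψ b', ⟨b', rfl⟩⟩, ?_⟩
    show y = ψ b / ψ b'
    rw [eq_div_iff hb']
    exact h)
  intro V hV hloc
  letI algAV : Algebra A V := (RingHom.codRestrict (algebraMap A L) V hV.1).toAlgebra
  haveI : IsLocalHom (algebraMap A V) := hloc
  have hCV : ∀ c : ψ.range, algebraMap ψ.range L c ∈ V := fun c =>
    mem_valuationSubring_of_isIntegralElem V (algebraMap A L) hV.1
      ((Algebra.IsIntegral.isIntegral (R := A) c).map ψ.range.val)
  have hinjL : Function.Injective (algebraMap A L) := Dict.algebraMap_injective K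
  have hQ : Dict.center V hCV ≠ ⊥ := by
    obtain ⟨π, hπ⟩ := IsDiscreteValuationRing.exists_irreducible A
    intro h
    have h1 : algebraMap A ψ.range π ∈ Dict.center V hCV := by
      rw [Dict.mem_center]
      exact hV.2 π hπ.not_isUnit
    rw [h, Ideal.mem_bot] at h1
    have h2 : algebraMap A L π = 0 := by
      have := congrArg (algebraMap ψ.range L) h1
      rwa [map_zero] at this
    exact hπ.ne_zero (hinjL (by rw [h2, map_zero]))
  letI algCV : Algebra ψ.range V := (Dict.incl V hCV).toAlgebra
  haveI : IsScalarTower A ψ.range V := IsScalarTower.of_algebraMap_eq (fun a => Subtype.ext rfl)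
  haveI hlocz : IsLocalization.AtPrime V (Dict.center V hCV) := by
    show IsLocalization (Dict.center V hCV).primeCompl V
    rw [isLocalization_iff]
    refine ⟨?_, ?_, ?_⟩
    · rintro ⟨t, ht⟩
      rw [ValuationSubring.valuation_eq_one_iff]
      exact Dict.val_eq_one_of_not_mem V hCV ht
    · intro x
      obtain ⟨a, t, ht, hx⟩ := Dict.exists_frac V hCV hQ x.2
      refine ⟨(a, ⟨t, ht⟩), ?_⟩
      apply Subtype.ext
      show (x : L) * algebraMap ψ.range L t = algebraMap ψ.range L a
      rw [hx]
      exact inv_mul_cancel_right₀ (Dict.ne_zero_of_not_mem V hCV ht) _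
    · intro a b hab
      refine ⟨1, ?_⟩
      have h0 : ((algebraMap ψ.range V a : V) : L) = ((algebraMap ψ.range V b : V) : L) := by
        rw [hab]
      have h00 : a = b := Subtype.ext h0
      rw [h00]
  haveI : Algebra.FormallyUnramified ψ.range V :=
    Algebra.FormallyUnramified.of_isLocalization (Dict.center V hCV).primeCompl
  haveI : Algebra.FormallyUnramified A V := Algebra.FormallyUnramified.comp A ψ.range V
  haveI : Algebra.EssFiniteType ψ.range V :=
    Algebra.EssFiniteType.of_isLocalization V (Dict.center V hCV).primeCompl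
  haveI : Algebra.EssFiniteType A V := Algebra.EssFiniteType.comp A ψ.range V
  have hwu : (maximalIdeal A).map (algebraMap A V) = maximalIdeal V :=
    Algebra.FormallyUnramified.map_maximalIdeal
  haveI hsep : Algebra.IsSeparable (ResidueField A) (ResidueField V) := inferInstance
  haveI : IsDiscreteValuationRing V := isDVR_of_dominates (A := A) (K := K)
    (g := algebraMap A L) (fun a => IsScalarTower.algebraMap_apply A K L a) hV
  have hinj : Function.Injective (algebraMap A V) := codRestrict_injective hinjL hV.1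
  have he : Ideal.ramificationIdx' (maximalIdeal A) (maximalIdeal V) = 1 :=
    (isWeaklyUnramified_iff A V hinj).1 hwu
  refine ⟨hsep, fun p hp _ hdvd => ?_⟩
  rw [he] at hdvd
  exact absurd (Nat.dvd_one.mp hdvd) hp.ne_one

end Alg

section Geo

theorem exists_lift_of_proper {X T : Scheme.{u}} (s : X ⟶ T) [IsProper s] (R : Type u)
    [CommRing R] [IsDomain R] [ValuationRing R]
    (K : Type u) [Field K] [Algebra R K] [IsFractionRing R K]
    (i₁ : Spec (CommRingCat.of K) ⟶ X) (i₂ : Spec (CommRingCat.of R) ⟶ T)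
    (h : i₁ ≫ s = Spec.map (CommRingCat.ofHom (algebraMap R K)) ≫ i₂) :
    ∃ l : Spec (CommRingCat.of R) ⟶ X,
      Spec.map (CommRingCat.ofHom (algebraMap R K)) ≫ l = i₁ ∧ l ≫ s = i₂ := by
  have hex : ValuativeCriterion.Existence s := by
    have h1 : UniversallyClosed s := inferInstance
    rw [UniversallyClosed.eq_valuativeCriterion] at h1
    exact h1.1
  obtain ⟨⟨l, hl1, hl2⟩⟩ :=
    (hex { R := R, K := K, i₁ := i₁, i₂ := i₂, commSq := ⟨h⟩ }).exists_lift
  exact ⟨l, hl1, hl2⟩

theorem exists_model (k : Type u) [Field k] {X Y : Scheme.{u}}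
    (s : X ⟶ Spec (CommRingCat.of k)) [IsProper s]
    (f : Y ⟶ X) [IsFinite f] [Etale f] (y : Y)
    (A : ValuationSubring (X.residueField (f.base y)))
    (a : Spec (CommRingCat.of A) ⟶ Spec (CommRingCat.of k))
    (ha : Spec.map (CommRingCat.ofHom A.subtype) ≫ a = X.fromSpecResidueField (f.base y) ≫ s) :
    ∃ (B : Type u) (_ : CommRing B) (_ : Algebra A B) (_ : Module.Finite A B)
      (_ : Algebra.Etale A B) (ψ : B →+* Y.residueField y),
      (∀ c : A, ψ (algebraMap A B c) =
        (f.residueFieldMap y).hom (c : X.residueField (f.base y))) ∧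
      ∀ ℓ : Y.residueField y, ∃ b b' : B, ψ b' ≠ 0 ∧ ℓ * ψ b' = ψ b := by
  obtain ⟨l, hl1, hl2⟩ := exists_lift_of_proper s A (X.residueField (f.base y))
    (X.fromSpecResidueField (f.base y)) a ha.symm
  obtain ⟨B, iB1, iB2, iB3, iB4, ⟨e⟩⟩ := Groth.Agent.Helper7.FEtAff.exists_iso_ofAlg A
    (MorphismProperty.Over.mk ⊤ (pullback.snd f l) ⟨inferInstance, inferInstance⟩)
  have hsq : Y.fromSpecResidueField y ≫ f =
      (Spec.map (f.residueFieldMap y) ≫
        Spec.map (CommRingCat.ofHom (algebraMap A (X.residueField (f.base y))))) ≫ l := by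
    rw [Category.assoc, hl1]
    exact (Scheme.Hom.SpecMap_residueFieldMap_fromSpecResidueField f y).symm
  obtain ⟨t₀, ht₀⟩ : ∃ t₀ : Spec (Y.residueField y) ⟶ pullback f l,
      t₀ = pullback.lift _ _ hsq := ⟨_, rfl⟩
  have ht₀1 : t₀ ≫ pullback.fst f l = Y.fromSpecResidueField y := by
    rw [ht₀]; exact pullback.lift_fst _ _ _
  have ht₀2 : t₀ ≫ pullback.snd f l = Spec.map (f.residueFieldMap y) ≫
      Spec.map (CommRingCat.ofHom (algebraMap A (X.residueField (f.base y)))) := by
    rw [ht₀]; exact pullback.lift_snd _ _ _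
  obtain ⟨t, ht⟩ : ∃ t : Spec (Y.residueField y) ⟶ Spec (CommRingCat.of B),
      t = t₀ ≫ e.hom.left := ⟨_, rfl⟩
  obtain ⟨ψc, hψc⟩ : ∃ ψc : CommRingCat.of B ⟶ Y.residueField y, Spec.map ψc = t :=
    ⟨Spec.preimage t, Spec.map_preimage t⟩
  have hw : e.hom.left ≫ Spec.map (CommRingCat.ofHom (algebraMap A B)) = pullback.snd f l :=
    MorphismProperty.Over.w e.hom
  have hψA : CommRingCat.ofHom (algebraMap A B) ≫ ψc =
      CommRingCat.ofHom (algebraMap A (X.residueField (f.base y))) ≫ f.residueFieldMap y := by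
    apply Spec.map_injective
    calc Spec.map (CommRingCat.ofHom (algebraMap A B) ≫ ψc)
        = Spec.map ψc ≫ Spec.map (CommRingCat.ofHom (algebraMap A B)) := Spec.map_comp _ _
      _ = (t₀ ≫ e.hom.left) ≫ Spec.map (CommRingCat.ofHom (algebraMap A B)) := by rw [hψc, ht]
      _ = t₀ ≫ (e.hom.left ≫ Spec.map (CommRingCat.ofHom (algebraMap A B))) :=
          Category.assoc _ _ _
      _ = t₀ ≫ pullback.snd f l := congrArg (fun w => t₀ ≫ w) hw
      _ = Spec.map (f.residueFieldMap y) ≫
          Spec.map (CommRingCat.ofHom (algebraMap A (X.residueField (f.base y)))) := ht₀2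
      _ = Spec.map (CommRingCat.ofHom (algebraMap A (X.residueField (f.base y))) ≫
          f.residueFieldMap y) := (Spec.map_comp _ _).symm
  obtain ⟨q, hq⟩ : ∃ q : Spec (CommRingCat.of B) ⟶ Y, q = e.inv.left ≫ pullback.fst f l :=
    ⟨_, rfl⟩
  have hid : e.hom.left ≫ e.inv.left = 𝟙 (pullback f l) :=
    congrArg (fun φ => φ.left) e.hom_inv_id
  have htq : t ≫ q = Y.fromSpecResidueField y := by
    calc t ≫ q = (t₀ ≫ e.hom.left) ≫ (e.inv.left ≫ pullback.fst f l) := by rw [ht, hq]
      _ = t₀ ≫ ((e.hom.left ≫ e.inv.left) ≫ pullback.fst f l) := by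
          simp only [Category.assoc]
      _ = t₀ ≫ (𝟙 _ ≫ pullback.fst f l) := by rw [hid]
      _ = Y.fromSpecResidueField y := by rw [Category.id_comp, ht₀1]
  -- the image point and the decomposition of `t`
  obtain ⟨w, hw'⟩ : ∃ w : Spec (CommRingCat.of B),
      w = t (IsLocalRing.closedPoint (Y.residueField y)) := ⟨_, rfl⟩
  obtain ⟨φw, hφw⟩ : ∃ φw : (Spec (CommRingCat.of B)).residueField w ⟶ Y.residueField y,
      Spec.map φw ≫ (Spec (CommRingCat.of B)).fromSpecResidueField w = t := by
    rw [hw']
    exact ⟨_, Scheme.descResidueField_stalkClosedPointTo_fromSpecResidueField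
      (Y.residueField y) _ t⟩
  have h1 : Spec.map (q.residueFieldMap w ≫ φw) ≫ Y.fromSpecResidueField (q.base w) =
      Y.fromSpecResidueField y := by
    calc Spec.map (q.residueFieldMap w ≫ φw) ≫ Y.fromSpecResidueField (q.base w)
        = Spec.map φw ≫ (Spec.map (q.residueFieldMap w) ≫ Y.fromSpecResidueField (q.base w)) := by
          rw [Spec.map_comp, Category.assoc]
      _ = Spec.map φw ≫ ((Spec (CommRingCat.of B)).fromSpecResidueField w ≫ q) := by
          rw [Scheme.Hom.SpecMap_residueFieldMap_fromSpecResidueField]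
      _ = (Spec.map φw ≫ (Spec (CommRingCat.of B)).fromSpecResidueField w) ≫ q :=
          (Category.assoc _ _ _).symm
      _ = t ≫ q := by rw [hφw]
      _ = Y.fromSpecResidueField y := htq
  have h2 : (Scheme.SpecToEquivOfField (Y.residueField y) Y).symm
        ⟨q.base w, q.residueFieldMap w ≫ φw⟩ =
      (Scheme.SpecToEquivOfField (Y.residueField y) Y).symm ⟨y, 𝟙 _⟩ := by
    show Spec.map (q.residueFieldMap w ≫ φw) ≫ Y.fromSpecResidueField (q.base w) =
      Spec.map (𝟙 (Y.residueField y)) ≫ Y.fromSpecResidueField y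
    rw [h1, Spec.map_id]
    exact (Category.id_comp _).symm
  obtain ⟨e', he'⟩ := Scheme.SpecToEquivOfField_eq_iff.mp
    ((Scheme.SpecToEquivOfField (Y.residueField y) Y).symm.injective h2)
  dsimp only at e' he'
  have hsurj : Function.Surjective φw.hom := by
    have h6 : (Y.residueFieldCongr e').inv ≫ (q.residueFieldMap w ≫ φw) = 𝟙 _ := by
      rw [he', Category.comp_id, Iso.inv_hom_id]
    intro ℓ
    refine ⟨(q.residueFieldMap w).hom ((Y.residueFieldCongr e').inv.hom ℓ), ?_⟩
    exact congrArg (fun φ => φ.hom ℓ) h6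
  have h3 : ψc = CommRingCat.ofHom (algebraMap B w.asIdeal.ResidueField) ≫
      (Scheme.Spec.residueFieldIso (CommRingCat.of B) w).inv ≫ φw := by
    apply Spec.map_injective
    rw [hψc, ← hφw, Spec.map_comp, Spec.map_comp, Category.assoc,
      Scheme.Spec.map_residueFieldIso_inv_eq_fromSpecResidueField]
  refine ⟨B, iB1, iB2, iB3, iB4, ψc.hom, fun c => congrArg (fun φ => φ.hom c) hψA, ?_⟩
  intro ℓ
  obtain ⟨c₀, hc₀⟩ := hsurj ℓ
  obtain ⟨Φ, hΦdef⟩ : ∃ Φ : w.asIdeal.ResidueField →+* Y.residueField y,
      Φ = ((Scheme.Spec.residueFieldIso (CommRingCat.of B) w).inv ≫ φw).hom := ⟨_, rfl⟩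
  have hΦ : ∀ b : B, ψc.hom b = Φ (algebraMap B w.asIdeal.ResidueField b) := fun b => by
    rw [hΦdef]
    exact congrArg (fun φ => φ.hom b) h3
  obtain ⟨c₁, hc₁⟩ : ∃ c₁ : w.asIdeal.ResidueField, Φ c₁ = ℓ := by
    refine ⟨(Scheme.Spec.residueFieldIso (CommRingCat.of B) w).hom.hom c₀, ?_⟩
    rw [hΦdef, ← hc₀]
    simp
  obtain ⟨x, rfl⟩ := IsLocalRing.residue_surjective c₁
  obtain ⟨⟨b, s⟩, hbs⟩ := IsLocalization.surj w.asIdeal.primeCompl x
  refine ⟨b, s, ?_, ?_⟩
  · rw [hΦ]
    intro h0
    have h4 : algebraMap B w.asIdeal.ResidueField s = 0 :=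
      Φ.injective (by rw [h0, map_zero])
    rw [Ideal.algebraMap_residueField_eq_zero] at h4
    exact s.2 h4
  · rw [hΦ, hΦ, ← hc₁, ← map_mul]
    congr 1
    have h5 := congrArg (IsLocalRing.residue (Localization.AtPrime w.asIdeal)) hbs
    rw [map_mul] at h5
    exact h5

/-- Main theorem: finite étale over a proper `k`-scheme is tame (indeed unramified) at every DVR of
`κ(x)` through which `Spec κ(x) → Spec k` factors. -/
theorem main_proper (k : Type u) [Field k] {X Y : Scheme.{u}}
    (s : X ⟶ Spec (CommRingCat.of k)) [IsProper s]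
    (f : Y ⟶ X) [IsFinite f] [Etale f] (y : Y)
    (A : ValuationSubring (X.residueField (f.base y))) [IsDiscreteValuationRing A]
    (a : Spec (CommRingCat.of A) ⟶ Spec (CommRingCat.of k))
    (ha : Spec.map (CommRingCat.ofHom A.subtype) ≫ a = X.fromSpecResidueField (f.base y) ≫ s) :
    EtRam.IsTamelyRamified A ((f.residueFieldMap y).hom.comp A.subtype) := by
  obtain ⟨B, iB1, iB2, iB3, iB4, ψ, hψA, hψ⟩ := exists_model k s f y A a ha
  letI algKL : Algebra (X.residueField (f.base y)) (Y.residueField y) :=
    (f.residueFieldMap y).hom.toAlgebra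
  letI algAL : Algebra A (Y.residueField y) :=
    ((f.residueFieldMap y).hom.comp A.subtype).toAlgebra
  haveI : IsScalarTower A (X.residueField (f.base y)) (Y.residueField y) :=
    IsScalarTower.of_algebraMap_eq (fun a => rfl)
  haveI : Module.Finite (X.residueField (f.base y)) (Y.residueField y) :=
    finite_residueFieldMap f y
  haveI : Algebra.FormallyUnramified A B := inferInstance
  exact tame_of_unramified_model (A := A) (K := X.residueField (f.base y))
    (L := Y.residueField y) (B := B) { ψ with commutes' := hψA } hψ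

end Geo

end Groth.Agent.Lib.Helper7.TameGal
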